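import Cfsg.Agent.H493.OddDeg.Psp
import Cfsg.Prelude.Def_LieTypeChar
import Cfsg.Agent.S4279
import Cfsg.Agent.S1114
import Cfsg.Agent.S1152

/-!
# `TwoC` for `G_2(q)`, `q` odd, and the small Ree groups (S4948, task 358)
-/

set_option autoImplicit false

namespace Cfsg.Agent.H493.OddDeg.G2Ree

open Cfsg Subgroup Cfsg.Agent.H601.OddDeg

/-- a central `2`-element may be added -/
theorem TwoC.with_central {C : Type*} [Group C] [Finite C] {t : C} (ht : ∀ g : C, g * t = t * g)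
    (ht2 : ∃ k, t ^ 2 ^ k = 1) (h : TwoC C) :
    ∃ D : Subgroup C, IsPGroup 2 D ∧ t ∈ D ∧ IsPGroup 2 (centralizer (D : Set C)) := by
  obtain ⟨D, hD, hC⟩ := h
  have hZ : IsPGroup 2 (zpowers t) := by
    obtain ⟨k, hk⟩ := ht2
    rintro ⟨x, hx⟩
    obtain ⟨n, rfl⟩ := mem_zpowers_iff.1 hx
    refine ⟨k, Subtype.ext ?_⟩
    show (t ^ n) ^ 2 ^ k = 1
    rw [← zpow_natCast, ← zpow_mul, mul_comm n, zpow_mul, zpow_natCast, hk, one_zpow]
  have hZn : (zpowers t).Normal := by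
    have h1 : zpowers t ≤ center C := by
      rw [zpowers_le, mem_center_iff]
      exact ht
    exact ⟨fun x hx g => by
      have h2 := mem_center_iff.1 (h1 hx) g
      rw [h2, mul_inv_cancel_right]
      exact hx⟩
  refine ⟨D ⊔ zpowers t, hD.to_sup_of_normal_right hZ, (le_sup_right : _ ≤ D ⊔ zpowers t) (mem_zpowers t), ?_⟩
  exact hC.to_le (centralizer_le (le_sup_left : D ≤ D ⊔ zpowers t))

/-- from the centralizer of a `2`-element -/
theorem TwoC.of_centralizer {G : Type*} [Group G] [Finite G] {t : G} (ht : ∃ k, t ^ 2 ^ k = 1)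
    (h : TwoC ↥(centralizer ({t} : Set G))) : TwoC G := by
  have htC : t ∈ centralizer ({t} : Set G) := mem_centralizer_singleton_iff.2 rfl
  obtain ⟨D, hD, htD, hC⟩ := TwoC.with_central (t := (⟨t, htC⟩ : ↥(centralizer ({t} : Set G))))
    (fun g => Subtype.ext (mem_centralizer_singleton_iff.1 g.2))
    (by
      obtain ⟨k, hk⟩ := ht
      exact ⟨k, Subtype.ext hk⟩) h
  refine ⟨D.map (centralizer ({t} : Set G)).subtype, hD.map _, ?_⟩
  rintro ⟨x, hx⟩
  rw [mem_centralizer_iff] at hx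
  have hxC : x ∈ centralizer ({t} : Set G) := by
    rw [mem_centralizer_singleton_iff]
    exact (hx t ⟨⟨t, htC⟩, htD, rfl⟩).symm
  have h1 : (⟨x, hxC⟩ : ↥(centralizer ({t} : Set G))) ∈ centralizer (D : Set ↥(centralizer ({t} : Set G))) := by
    rw [mem_centralizer_iff]
    intro d hd
    exact Subtype.ext (hx d ⟨d, hd, rfl⟩)
  obtain ⟨k, hk⟩ := hC ⟨⟨x, hxC⟩, h1⟩
  refine ⟨k, Subtype.ext ?_⟩
  have h2 := congrArg (fun y => ((Subtype.val y : ↥(centralizer ({t} : Set G))) : G)) hk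
  exact h2

theorem TwoC.prod {A B : Type*} [Group A] [Group B] (hA : IsPGroup 2 A) (hB : TwoC B) : TwoC (A × B) := by
  obtain ⟨D, hD, hC⟩ := hB
  refine ⟨D.map (MonoidHom.inr A B), hD.map _, ?_⟩
  rintro ⟨⟨a, b⟩, hx⟩
  rw [mem_centralizer_iff] at hx
  have h1 : b ∈ centralizer (D : Set B) := by
    rw [mem_centralizer_iff]
    intro d hd
    exact congrArg Prod.snd (hx (1, d) ⟨d, hd, rfl⟩)
  obtain ⟨k, hk⟩ := hA a
  obtain ⟨l, hl⟩ := hC ⟨b, h1⟩
  have hl' : b ^ 2 ^ l = 1 := congrArg Subtype.val hl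
  refine ⟨k + l, Subtype.ext (Prod.ext ?_ ?_)⟩
  · show a ^ 2 ^ (k + l) = 1
    rw [pow_add, pow_mul, hk, one_pow]
  · show b ^ 2 ^ (k + l) = 1
    rw [add_comm, pow_add, pow_mul, hl', one_pow]

/-- **Small Ree groups** -/
theorem twoC_ree {S : Type*} [Group S] (h : Cfsg.Lie.IsoRee S) : TwoC S := by
  obtain ⟨K, _, _, m, hm, hK, e⟩ := h
  refine TwoC.of_nonempty ?_ e
  have hfin : Finite ↥(Cfsg.Lie.twistedG2 K (3 ^ m)) := inferInstance
  have h2 : (2 : K) ≠ 0 := by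
    intro h
    have h1 : ((3 ^ (2 * m + 1) : ℕ) : K) = 0 := by
      rw [← hK]
      exact FiniteField.cast_card_eq_zero K
    have h3 : (3 : K) = 0 := by
      push_cast at h1
      exact pow_eq_zero_iff (by omega) |>.1 h1
    have h4 : (1 : K) = 0 := by linear_combination h3 - h
    exact one_ne_zero h4
  have hcard := S1114.result (K := K) (m := m) hK
  have hd : 2 ∣ Nat.card ↥(Cfsg.Lie.chevG2.diagonalSubgroup K ⊓ Cfsg.Lie.twistedG2 K (3 ^ m)) := by
    rw [hcard]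
    have h1 : Odd (3 ^ (2 * m + 1)) := Odd.pow (by decide)
    obtain ⟨k, hk⟩ := h1
    rw [hk]
    simp
  have := Fact.mk Nat.prime_two
  obtain ⟨a, ha⟩ := exists_prime_orderOf_dvd_card' 2 hd
  have haT : (a : GL Cfsg.Lie.chevG2.Idx K) ∈ Cfsg.Lie.twistedG2 K (3 ^ m) := a.2.2
  have ha2 : a ^ 2 = 1 := ha ▸ pow_orderOf_eq_one a
  have ha3 : (a : GL Cfsg.Lie.chevG2.Idx K) ^ 2 = 1 := by
    rw [← SubmonoidClass.coe_pow, ha2]; rfl
  have ha2' : (⟨a, haT⟩ : ↥(Cfsg.Lie.twistedG2 K (3 ^ m))) ^ 2 = 1 := Subtype.ext ha3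
  have ha1 : (⟨a, haT⟩ : ↥(Cfsg.Lie.twistedG2 K (3 ^ m))) ≠ 1 := by
    intro h
    have h0 : (a : GL Cfsg.Lie.chevG2.Idx K) = 1 := congrArg Subtype.val h
    have h1 : a = 1 := Subtype.ext h0
    rw [h1, orderOf_one] at ha
    exact absurd ha (by norm_num)
  obtain ⟨⟨f⟩, -⟩ := S1152.result hK ⟨a, haT⟩ a.2.1 ha1 (by rw [← pow_two]; exact ha2')
  refine TwoC.of_centralizer (t := ⟨a, haT⟩) ⟨1, by rw [pow_one]; exact ha2'⟩ ?_
  refine (TwoC.prod ?_ (twoC_psl2 h2)).congr f.symm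
  exact IsPGroup.of_card (n := 1) (by simp)

section

variable {F : Type*} [Field F]

theorem det_I2 : (I2 : Matrix (Fin 2) (Fin 2) F).det = 1 := by rw [I2, Matrix.det_fin_two_of]; ring

theorem det_J2 {a b : F} (h : a ^ 2 + b ^ 2 = -1) : (J2 a b).det = 1 := by
  rw [J2, Matrix.det_fin_two_of]; linear_combination -h

theorem I2_mul_J2 (a b : F) : I2 * J2 a b = -(J2 a b * I2) := by
  ext i j
  fin_cases i <;> fin_cases j <;> simp [I2, J2]

theorem I2_mem (a b : F) : (⟨I2, det_I2⟩ : Matrix.SpecialLinearGroup (Fin 2) F) ∈ D2 a b :=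
  ⟨Or.inl rfl, Or.inr (I2_mul_J2 a b)⟩

theorem J2_mem {a b : F} (h : a ^ 2 + b ^ 2 = -1) :
    (⟨J2 a b, det_J2 h⟩ : Matrix.SpecialLinearGroup (Fin 2) F) ∈ D2 a b :=
  ⟨Or.inr (by show J2 a b * I2 = -(I2 * J2 a b); rw [I2_mul_J2, neg_neg]), Or.inl rfl⟩

theorem D2_pow (h2 : (2 : F) ≠ 0) {a b : F} (h : a ^ 2 + b ^ 2 = -1) {g : Matrix.SpecialLinearGroup (Fin 2) F}
    (hg : g ∈ D2 a b) : g ^ 4 = 1 := by
  have h1 : (g * g) * (g * g) = 1 := Subtype.ext (key2 h2 h hg.1.sq hg.2.sq (g * g).2)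
  rw [← h1, ← pow_two, ← pow_two, ← pow_mul]

theorem sq_of_comm (h2 : (2 : F) ≠ 0) {a b : F} (h : a ^ 2 + b ^ 2 = -1) {g : Matrix.SpecialLinearGroup (Fin 2) F}
    (hg : ∀ d ∈ D2 a b, d * g = g * d) : g * g = 1 :=
  Subtype.ext (key2 h2 h (congrArg Subtype.val (hg _ (I2_mem a b))) (congrArg Subtype.val (hg _ (J2_mem h))) g.2)

theorem mem_D2_of_central {a b : F} (h : a ^ 2 + b ^ 2 = -1) {g : Matrix.SpecialLinearGroup (Fin 2) F}
    (hg : ∀ x, g * x = x * g) : g ∈ D2 a b :=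
  ⟨Or.inl (congrArg Subtype.val (hg ⟨I2, det_I2⟩)), Or.inl (congrArg Subtype.val (hg ⟨J2 a b, det_J2 h⟩))⟩

end

/-- two commuting copies of `SL_2` -/
theorem TwoC.of_two {G : Type*} [Group G] [Finite G] {F : Type*} [Field F] [Finite F] (h2 : (2 : F) ≠ 0) {t : G}
    {L₁ L₂ : Subgroup G} (e₁ : L₁ ≃* Matrix.SpecialLinearGroup (Fin 2) F) (e₂ : L₂ ≃* Matrix.SpecialLinearGroup (Fin 2) F)
    (hc : ∀ x ∈ L₁, ∀ y ∈ L₂, x * y = y * x) (ht : t ∈ L₁) (hle : L₁ ⊔ L₂ ≤ centralizer ({t} : Set G))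
    (hidx : (L₁ ⊔ L₂).relIndex (centralizer ({t} : Set G)) = 2) : TwoC G := by
  obtain ⟨a, b, h⟩ := exists_sq (F := F)
  -- the product of the two quaternion groups
  let f₁ : D2 a b →* G := L₁.subtype.comp (e₁.symm.toMonoidHom.comp (D2 a b).subtype)
  let f₂ : D2 a b →* G := L₂.subtype.comp (e₂.symm.toMonoidHom.comp (D2 a b).subtype)
  have hcc : ∀ x y, Commute (f₁ x) (f₂ y) := fun x y => hc _ (e₁.symm x).2 _ (e₂.symm y).2
  let f : (D2 a b × D2 a b) →* G := MonoidHom.noncommCoprod f₁ f₂ hcc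
  have hf1 : ∀ x : D2 a b, f (x, 1) = ((e₁.symm (x : Matrix.SpecialLinearGroup (Fin 2) F) : L₁) : G) := by
    intro x
    show f₁ x * f₂ 1 = _
    rw [map_one, mul_one]
    rfl
  have hf2 : ∀ x : D2 a b, f (1, x) = ((e₂.symm (x : Matrix.SpecialLinearGroup (Fin 2) F) : L₂) : G) := by
    intro x
    show f₁ 1 * f₂ x = _
    rw [map_one, one_mul]
    rfl
  have htL : ∀ x ∈ L₁, t * x = x * t := fun x hx =>
    (mem_centralizer_singleton_iff.1 (hle (le_sup_left (a := L₁) (b := L₂) hx))).symm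
  have htD : e₁ ⟨t, ht⟩ ∈ D2 a b := by
    apply mem_D2_of_central h
    intro x
    obtain ⟨y, rfl⟩ := e₁.surjective x
    rw [← map_mul, ← map_mul]
    congr 1
    exact Subtype.ext (htL y y.2)
  have htf : t ∈ f.range := ⟨(⟨e₁ ⟨t, ht⟩, htD⟩, 1), by rw [hf1, e₁.symm_apply_apply]⟩
  refine ⟨f.range, ?_, ?_⟩
  · rintro ⟨_, ⟨x, y⟩, rfl⟩
    refine ⟨2, Subtype.ext ?_⟩
    show f (x, y) ^ 2 ^ 2 = 1
    have hx : x ^ 4 = 1 := Subtype.ext (D2_pow h2 h x.2)
    have hy : y ^ 4 = 1 := Subtype.ext (D2_pow h2 h y.2)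
    rw [← map_pow, Prod.pow_mk]
    norm_num [hx, hy]
    exact map_one f
  · rintro ⟨x, hx⟩
    rw [mem_centralizer_iff] at hx
    refine ⟨2, Subtype.ext ?_⟩
    show x ^ 2 ^ 2 = 1
    have hxC : x ∈ centralizer ({t} : Set G) := by
      rw [mem_centralizer_singleton_iff]
      exact (hx t htf).symm
    -- `x ^ 2` lies in the product
    have hx2 : x ^ 2 ∈ L₁ ⊔ L₂ := by
      have hi : ((L₁ ⊔ L₂).subgroupOf (centralizer ({t} : Set G))).index = 2 := hidx
      have h3 := Subgroup.sq_mem_of_index_two hi ⟨x, hxC⟩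
      exact h3
    have hcc' : ∀ (m : L₁) (n : L₂), Commute (L₁.subtype m) (L₂.subtype n) := fun x y => hc x x.2 y y.2
    have hr : (MonoidHom.noncommCoprod L₁.subtype L₂.subtype hcc').range = L₁ ⊔ L₂ := by
      rw [MonoidHom.noncommCoprod_range, Subgroup.range_subtype, Subgroup.range_subtype]
    rw [← hr] at hx2
    obtain ⟨⟨u, v⟩, huv⟩ := hx2
    have huv' : (u : G) * v = x ^ 2 := huv
    have hcu : ∀ d : G, d * x = x * d → d * v = v * d → d * u = u * d := by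
      intro d h3 h4
      have h5 : Commute d (x ^ 2) := (show Commute d x from h3).pow_right 2
      have h6 : (u : G) = x ^ 2 * (v : G)⁻¹ := by rw [← huv']; group
      rw [h6]
      exact (h5.mul_right (show Commute d (v : G) from h4).inv_right).eq
    have hcv : ∀ d : G, d * x = x * d → d * u = u * d → d * v = v * d := by
      intro d h3 h4
      have h5 : Commute d (x ^ 2) := (show Commute d x from h3).pow_right 2
      have h6 : (v : G) = (u : G)⁻¹ * x ^ 2 := by rw [← huv']; group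
      rw [h6]
      exact ((show Commute d (u : G) from h4).inv_right.mul_right h5).eq
    have hu : e₁ u * e₁ u = 1 := by
      apply sq_of_comm h2 h
      intro d hd
      have h3 := hcu _ (hx (f (⟨d, hd⟩, 1)) ⟨_, rfl⟩) (by
        rw [hf1]
        exact hc _ (e₁.symm d).2 _ v.2)
      rw [hf1] at h3
      have h4 : e₁.symm d * u = u * e₁.symm d := Subtype.ext h3
      have h5 := congrArg e₁ h4
      rwa [map_mul, map_mul, e₁.apply_symm_apply] at h5
    have hv : e₂ v * e₂ v = 1 := by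
      apply sq_of_comm h2 h
      intro d hd
      have h3 := hcv _ (hx (f (1, ⟨d, hd⟩)) ⟨_, rfl⟩) (by
        rw [hf2]
        exact (hc _ u.2 _ (e₂.symm d).2).symm)
      rw [hf2] at h3
      have h4 : e₂.symm d * v = v * e₂.symm d := Subtype.ext h3
      have h5 := congrArg e₂ h4
      rwa [map_mul, map_mul, e₂.apply_symm_apply] at h5
    have hu' : (u : G) * u = 1 := by
      have h3 : u * u = 1 := e₁.injective (by rw [map_mul, hu, map_one])
      exact congrArg Subtype.val h3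
    have hv' : (v : G) * v = 1 := by
      have h3 : v * v = 1 := e₂.injective (by rw [map_mul, hv, map_one])
      exact congrArg Subtype.val h3
    have h3 : (x ^ 2) ^ 2 = 1 := by
      rw [← huv', pow_two]
      calc (u : G) * v * (u * v) = u * (v * u) * v := by group
        _ = u * (u * v) * v := by rw [hc u u.2 v v.2]
        _ = (u * u) * (v * v) := by group
        _ = 1 := by rw [hu', hv', one_mul]
    rw [← pow_mul] at h3
    exact h3

/-- **`G_2(q)`, `q` odd** -/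
theorem twoC_g2 {F : Type} [Field F] [Fintype F] (h2 : (2 : F) ≠ 0) : TwoC (Cfsg.Lie.chevG2.group F) := by
  have hfin : Finite ↥(Cfsg.Lie.chevG2.group F) := inferInstance
  have hodd : Odd (Fintype.card F) := by
    rw [← Nat.not_even_iff_odd]
    intro he
    apply h2
    have hch : ringChar F = 2 := by
      by_contra hne
      have h3 := FiniteField.odd_card_of_char_ne_two hne
      have h4 := he.two_dvd
      omega
    have := CharP.cast_eq_zero F (ringChar F)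
    rw [hch] at this
    exact_mod_cast this
  obtain ⟨P, -, hcard, -⟩ := S4278.main (F := F) hodd
  -- an involution
  have hd : 2 ∣ Nat.card ↥(Cfsg.Lie.chevG2.group F) := by
    have h1 : 2 ∣ Nat.card P.K := by
      rw [hcard]
      have h3 : 2 ∣ Fintype.card F ^ 2 - 1 := by
        obtain ⟨k, hk⟩ := hodd.pow (n := 2)
        rw [hk]
        simp
      exact (h3.trans (dvd_pow_self _ (by norm_num))).mul_left _
    exact h1.trans (Subgroup.card_subgroup_dvd_card _)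
  have := Fact.mk Nat.prime_two
  obtain ⟨t, ht⟩ := exists_prime_orderOf_dvd_card' 2 hd
  obtain ⟨-, L₁, L₂, ⟨e₁⟩, ⟨e₂⟩, hc, hint, hle, hidx⟩ := S4279.result hodd t ht
  refine TwoC.of_two h2 e₁ e₂ hc ?_ hle hidx
  have h3 : t ∈ L₁ ⊓ L₂ := by
    rw [hint]
    exact mem_zpowers t
  exact h3.1

end Cfsg.Agent.H493.OddDeg.G2Ree
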