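import Mathlib
import Cfsg.Prelude.Def_Classical
import Cfsg.Agent.H601.OddDeg.Defs

/-!
# `TwoC` for `PSp_{2m}(q)` and `PSL_2(q)`, `q` odd (S4948, task 356)
-/

set_option autoImplicit false
set_option linter.unusedSimpArgs false
set_option linter.unreachableTactic false
set_option linter.unusedTactic false

namespace Cfsg.Agent.H493.OddDeg

open Cfsg Subgroup Matrix Cfsg.Agent.H601.OddDeg

/-- `-1` is a sum of two squares -/
theorem exists_sq {F : Type*} [Field F] [Finite F] : ∃ a b : F, a ^ 2 + b ^ 2 = -1 := by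
  obtain ⟨p, hp⟩ := CharP.exists F
  have : NeZero p := ⟨(CharP.char_is_prime F p).ne_zero⟩
  obtain ⟨a, b, h⟩ := CharP.sq_add_sq F p (-1)
  exact ⟨a, b, by rw [h]; push_cast; ring⟩

section sp

variable {F : Type*} [Field F] {m : ℕ}

/-- `[[0, 1], [-1, 0]]` on the plane `i` -/
def A (i : Fin m) : Matrix (Fin m ⊕ Fin m) (Fin m ⊕ Fin m) F :=
  fromBlocks 0 (single i i 1) (-single i i 1) 0

/-- `[[a, b], [b, -a]]` on the plane `i` -/
def B (a b : F) (i : Fin m) : Matrix (Fin m ⊕ Fin m) (Fin m ⊕ Fin m) F :=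
  fromBlocks (single i i a) (single i i b) (single i i b) (-single i i a)

/-- the projection on the plane `i` -/
def P (i : Fin m) : Matrix (Fin m ⊕ Fin m) (Fin m ⊕ Fin m) F :=
  fromBlocks (single i i 1) 0 0 (single i i 1)

theorem A_mul_A (i : Fin m) : (A i : Matrix _ _ F) * A i = -P i := by
  simp [A, P, fromBlocks_multiply, fromBlocks_neg]

theorem B_mul_B {a b : F} (h : a ^ 2 + b ^ 2 = -1) (i : Fin m) : B a b i * B a b i = -P i := by
  have h1 : single i i (a * a) + single i i (b * b) = (-single i i 1 : Matrix (Fin m) (Fin m) F) := by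
    rw [← single_add, show a * a + b * b = -1 by rw [← h]; ring]
    ext r s
    simp [single_apply]
    split_ifs <;> simp
  have h2 : single i i (b * b) + single i i (a * a) = (-single i i 1 : Matrix (Fin m) (Fin m) F) := by
    rw [add_comm, h1]
  simp only [B, P, fromBlocks_multiply, fromBlocks_neg, single_mul_single_same, mul_neg, neg_mul, neg_neg, h1, h2,
    neg_zero]
  congr 1
  · rw [mul_comm b a]; simp
  · rw [mul_comm b a]; simp

theorem A_mul_B (a b : F) (i : Fin m) : A i * B a b i = -(B a b i * A i) := by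
  simp [A, B, fromBlocks_multiply, fromBlocks_neg]

theorem P_mul_A (i : Fin m) : P i * A i = (A i : Matrix _ _ F) := by
  simp [A, P, fromBlocks_multiply]

theorem A_mul_P (i : Fin m) : A i * P i = (A i : Matrix _ _ F) := by
  simp [A, P, fromBlocks_multiply]

theorem P_mul_B (a b : F) (i : Fin m) : P i * B a b i = B a b i := by
  simp [B, P, fromBlocks_multiply]

theorem B_mul_P (a b : F) (i : Fin m) : B a b i * P i = B a b i := by
  simp [B, P, fromBlocks_multiply]

theorem P_mul_P (i : Fin m) : P i * P i = (P i : Matrix _ _ F) := by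
  simp [P, fromBlocks_multiply]

theorem single_inl (a b : F) (h : a ^ 2 + b ^ 2 = -1) (i : Fin m) :
    single (Sum.inl i) (Sum.inl i) (2 : F) = P i - (a • B a b i + b • (A i * B a b i)) := by
  have h' : a * a + b * b = -1 := by rw [← h]; ring
  ext (r | r) (c | c)
  all_goals simp only [P, B, A, fromBlocks_multiply, Matrix.sub_apply, Matrix.add_apply, Matrix.smul_apply,
    fromBlocks_apply₁₁, fromBlocks_apply₁₂, fromBlocks_apply₂₁, fromBlocks_apply₂₂, single_apply, smul_eq_mul,
    Sum.inl.injEq, reduceCtorEq, zero_mul, zero_add, single_mul_single_same, mul_neg, neg_mul, one_mul,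
    Matrix.neg_apply, Matrix.zero_apply, false_and, and_false, if_false, add_zero, mul_zero]
  all_goals split_ifs <;> first | ring1 | linear_combination (-1 : F) * h' | linear_combination h' | simp_all

theorem single_inr (a b : F) (h : a ^ 2 + b ^ 2 = -1) (i : Fin m) :
    single (Sum.inr i) (Sum.inr i) (2 : F) = P i + (a • B a b i + b • (A i * B a b i)) := by
  have h' : a * a + b * b = -1 := by rw [← h]; ring
  ext (r | r) (c | c)
  all_goals simp only [P, B, A, fromBlocks_multiply, Matrix.sub_apply, Matrix.add_apply, Matrix.smul_apply,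
    fromBlocks_apply₁₁, fromBlocks_apply₁₂, fromBlocks_apply₂₁, fromBlocks_apply₂₂, single_apply, smul_eq_mul,
    Sum.inr.injEq, reduceCtorEq, zero_mul, zero_add, single_mul_single_same, mul_neg, neg_mul, one_mul,
    Matrix.neg_apply, Matrix.zero_apply, false_and, and_false, if_false, add_zero, mul_zero]
  all_goals split_ifs <;> first | ring1 | linear_combination (-1 : F) * h' | linear_combination h' | simp_all

theorem single_inlr (a b : F) (h : a ^ 2 + b ^ 2 = -1) (i : Fin m) :
    single (Sum.inl i) (Sum.inr i) (2 : F) = A i - (b • B a b i - a • (A i * B a b i)) := by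
  have h' : a * a + b * b = -1 := by rw [← h]; ring
  ext (r | r) (c | c)
  all_goals simp only [P, B, A, fromBlocks_multiply, Matrix.sub_apply, Matrix.add_apply, Matrix.smul_apply,
    fromBlocks_apply₁₁, fromBlocks_apply₁₂, fromBlocks_apply₂₁, fromBlocks_apply₂₂, single_apply, smul_eq_mul,
    Sum.inr.injEq, Sum.inl.injEq, reduceCtorEq, zero_mul, zero_add, single_mul_single_same, mul_neg, neg_mul, one_mul,
    Matrix.neg_apply, Matrix.zero_apply, false_and, and_false, if_false, add_zero, mul_zero]
  all_goals split_ifs <;> first | ring1 | linear_combination (-1 : F) * h' | linear_combination h' | simp_all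

/-- a symplectic matrix which commutes with all `A i`, `B i` is an involution -/
theorem key (h2 : (2 : F) ≠ 0) {a b : F} (h : a ^ 2 + b ^ 2 = -1) {g : Matrix (Fin m ⊕ Fin m) (Fin m ⊕ Fin m) F}
    (hA : ∀ i, Commute (A i) g) (hB : ∀ i, Commute (B a b i) g) (hg : g ∈ symplecticGroup (Fin m) F) : g * g = 1 := by
  have hP : ∀ i, Commute (P i) g := fun i => by
    have : (P i : Matrix _ _ F) = -(A i * A i) := by rw [A_mul_A, neg_neg]
    rw [this]
    exact ((hA i).mul_left (hA i)).neg_left
  have hAB : ∀ i, Commute (A i * B a b i) g := fun i => (hA i).mul_left (hB i)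
  have conv : ∀ i j : Fin m ⊕ Fin m, Commute (single i j (2 : F)) g → Commute (single i j (1 : F)) g := by
    intro i j h1
    have : (single i j (1 : F)) = (2⁻¹ : F) • single i j (2 : F) := by
      rw [smul_single, smul_eq_mul, inv_mul_cancel₀ h2]
    rw [this]
    exact h1.smul_left _
  have h1 : ∀ i : Fin m, Commute (single (Sum.inl i) (Sum.inl i) (1 : F)) g := fun i => conv _ _ (by
    rw [single_inl a b h]
    exact (hP i).sub_left (((hB i).smul_left _).add_left ((hAB i).smul_left _)))
  have h2' : ∀ i : Fin m, Commute (single (Sum.inr i) (Sum.inr i) (1 : F)) g := fun i => conv _ _ (by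
    rw [single_inr a b h]
    exact (hP i).add_left (((hB i).smul_left _).add_left ((hAB i).smul_left _)))
  have h3 : ∀ i : Fin m, Commute (single (Sum.inl i) (Sum.inr i) (1 : F)) g := fun i => conv _ _ (by
    rw [single_inlr a b h]
    exact (hA i).sub_left (((hB i).smul_left _).sub_left ((hAB i).smul_left _)))
  have h4 : ∀ r c, r ≠ c → g r c = 0 := by
    rintro r (c | c) hrc
    · exact col_eq_zero_of_commute_single (h1 c) hrc
    · exact col_eq_zero_of_commute_single (h2' c) hrc
  have h5 : ∀ i, g (Sum.inl i) (Sum.inl i) = g (Sum.inr i) (Sum.inr i) := fun i => diag_eq_of_commute_single (h3 i)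
  have h6 : g = diagonal fun r => g r r := by
    ext r c
    by_cases hrc : r = c
    · subst hrc; simp
    · rw [diagonal_apply_ne _ hrc, h4 r c hrc]
  have h7 : ∀ i, g (Sum.inl i) (Sum.inl i) * g (Sum.inr i) (Sum.inr i) = 1 := by
    intro i
    have h8 := SymplecticGroup.mem_iff.1 hg
    rw [h6, diagonal_transpose] at h8
    have h9 := congrFun (congrFun h8 (Sum.inl i)) (Sum.inr i)
    rw [mul_diagonal, diagonal_mul] at h9
    simp [J] at h9
    exact h9
  rw [h6, diagonal_mul_diagonal, ← diagonal_one]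
  congr 1
  ext (i | i)
  · have := h7 i
    rw [← h5] at this
    exact this
  · have := h7 i
    rw [h5] at this
    exact this

theorem J_eq : J (Fin m) F = fromBlocks 0 (-1) 1 0 := rfl

theorem J_mul_P (i : Fin m) : J (Fin m) F * P i = P i * J (Fin m) F := by
  simp [J_eq, P, fromBlocks_multiply]

theorem J_mul_A (i : Fin m) : J (Fin m) F * A i = A i * J (Fin m) F := by
  simp [J_eq, A, fromBlocks_multiply]

theorem J_mul_B (a b : F) (i : Fin m) : J (Fin m) F * B a b i = -(B a b i * J (Fin m) F) := by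
  simp [J_eq, B, fromBlocks_multiply, fromBlocks_neg]

theorem P_transpose (i : Fin m) : (P i : Matrix _ _ F)ᵀ = P i := by
  simp [P, fromBlocks_transpose]

theorem A_transpose (i : Fin m) : (A i : Matrix _ _ F)ᵀ = -A i := by
  simp [A, fromBlocks_transpose, fromBlocks_neg]

theorem B_transpose (a b : F) (i : Fin m) : (B a b i)ᵀ = B a b i := by
  simp [B, fromBlocks_transpose]

/-- `A i` on the plane `i`, the identity elsewhere -/
theorem EA_mem (i : Fin m) : (1 - P i + A i : Matrix _ _ F) ∈ symplecticGroup (Fin m) F := by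
  rw [SymplecticGroup.mem_iff]
  have hT : (1 - P i + A i : Matrix _ _ F)ᵀ = 1 - P i - A i := by
    rw [transpose_add, transpose_sub, transpose_one, P_transpose, A_transpose, sub_eq_add_neg (1 - P i)]
  rw [hT]
  have e1 : (1 - P i + A i : Matrix _ _ F) * J (Fin m) F = J (Fin m) F * (1 - P i + A i) := by
    rw [add_mul, sub_mul, one_mul, mul_add, mul_sub, mul_one, J_mul_P, J_mul_A]
  rw [e1, Matrix.mul_assoc]
  have e2 : (1 - P i + A i : Matrix _ _ F) * (1 - P i - A i) = 1 := by
    simp only [add_mul, sub_mul, mul_sub, one_mul, mul_one, A_mul_A, A_mul_P, P_mul_P, P_mul_A]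
    abel
  rw [e2, Matrix.mul_one]

theorem EB_mem {a b : F} (h : a ^ 2 + b ^ 2 = -1) (i : Fin m) :
    (1 - P i + B a b i : Matrix _ _ F) ∈ symplecticGroup (Fin m) F := by
  rw [SymplecticGroup.mem_iff]
  have hT : (1 - P i + B a b i : Matrix _ _ F)ᵀ = 1 - P i + B a b i := by
    rw [transpose_add, transpose_sub, transpose_one, P_transpose, B_transpose]
  rw [hT]
  have e1 : (1 - P i + B a b i : Matrix _ _ F) * J (Fin m) F = J (Fin m) F * (1 - P i - B a b i) := by
    rw [add_mul, sub_mul, one_mul, mul_sub, mul_sub, mul_one, J_mul_P, J_mul_B, sub_neg_eq_add]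
  rw [e1, Matrix.mul_assoc]
  have e2 : (1 - P i - B a b i : Matrix _ _ F) * (1 - P i + B a b i) = 1 := by
    simp only [sub_mul, mul_sub, mul_add, one_mul, mul_one, B_mul_B h, B_mul_P, P_mul_P, P_mul_B]
    abel
  rw [e2, Matrix.mul_one]

/-- commuting up to sign -/
def PC {n : Type*} [Fintype n] [DecidableEq n] (X g : Matrix n n F) : Prop := g * X = X * g ∨ g * X = -(X * g)

theorem PC.mul {n : Type*} [Fintype n] [DecidableEq n] {X g h : Matrix n n F} (hg : PC X g) (hh : PC X h) :
    PC X (g * h) := by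
  rcases hh with hh | hh <;> rcases hg with hg | hg
  · left; rw [Matrix.mul_assoc, hh, ← Matrix.mul_assoc, hg, Matrix.mul_assoc]
  · right; rw [Matrix.mul_assoc, hh, ← Matrix.mul_assoc, hg, Matrix.neg_mul, Matrix.mul_assoc]
  · right; rw [Matrix.mul_assoc, hh, Matrix.mul_neg, ← Matrix.mul_assoc, hg, Matrix.mul_assoc]
  · left; rw [Matrix.mul_assoc, hh, Matrix.mul_neg, ← Matrix.mul_assoc, hg, Matrix.neg_mul, Matrix.mul_assoc, neg_neg]

theorem PC.inv {n : Type*} [Fintype n] [DecidableEq n] {X g h : Matrix n n F} (hg : PC X g) (h1 : g * h = 1)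
    (h2 : h * g = 1) : PC X h := by
  rcases hg with hg | hg
  · left
    calc h * X = h * (X * (g * h)) := by rw [h1, Matrix.mul_one]
      _ = h * (g * X) * h := by rw [hg]; simp only [Matrix.mul_assoc]
      _ = X * h := by rw [← Matrix.mul_assoc, h2, Matrix.one_mul]
  · right
    calc h * X = h * (X * (g * h)) := by rw [h1, Matrix.mul_one]
      _ = -(h * (g * X) * h) := by
        rw [hg]; simp only [Matrix.mul_assoc, Matrix.mul_neg, Matrix.neg_mul, neg_neg]
      _ = -(X * h) := by rw [← Matrix.mul_assoc, h2, Matrix.one_mul]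

theorem PC.sq {n : Type*} [Fintype n] [DecidableEq n] {X g : Matrix n n F} (hg : PC X g) : Commute X (g * g) := by
  show X * (g * g) = g * g * X
  rcases hg with hg | hg
  · rw [Matrix.mul_assoc g g X, hg, ← Matrix.mul_assoc g X g, hg, Matrix.mul_assoc]
  · rw [Matrix.mul_assoc g g X, hg, Matrix.mul_neg, ← Matrix.mul_assoc g X g, hg, Matrix.neg_mul, Matrix.mul_assoc,
      neg_neg]

/-- the subgroup of elements commuting with all `A i`, `B i` up to sign -/
def D (m : ℕ) (a b : F) : Subgroup (symplecticGroup (Fin m) F) where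
  carrier := {g | ∀ i : Fin m, PC (A i) g.1 ∧ PC (B a b i) g.1}
  mul_mem' := fun hg hh i => ⟨(hg i).1.mul (hh i).1, (hg i).2.mul (hh i).2⟩
  one_mem' := fun i => ⟨Or.inl (by rw [OneMemClass.coe_one, one_mul, mul_one]),
    Or.inl (by rw [OneMemClass.coe_one, one_mul, mul_one])⟩
  inv_mem' := by
    intro g hg i
    have h1 : g.1 * (g⁻¹).1 = 1 := congrArg Subtype.val (mul_inv_cancel g)
    have h2 : (g⁻¹).1 * g.1 = 1 := congrArg Subtype.val (inv_mul_cancel g)
    exact ⟨(hg i).1.inv h1 h2, (hg i).2.inv h1 h2⟩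

theorem A_mul_A_ne {i j : Fin m} (hij : i ≠ j) : (A i : Matrix _ _ F) * A j = 0 := by
  simp [A, fromBlocks_multiply, single_mul_single_of_ne _ _ _ _ hij]

theorem A_mul_B_ne (a b : F) {i j : Fin m} (hij : i ≠ j) : (A i : Matrix _ _ F) * B a b j = 0 := by
  simp [A, B, fromBlocks_multiply, single_mul_single_of_ne _ _ _ _ hij]

theorem B_mul_A_ne (a b : F) {i j : Fin m} (hij : i ≠ j) : B a b i * A j = 0 := by
  simp [A, B, fromBlocks_multiply, single_mul_single_of_ne _ _ _ _ hij]

theorem B_mul_B_ne (a b : F) {i j : Fin m} (hij : i ≠ j) : B a b i * B a b j = 0 := by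
  simp [B, fromBlocks_multiply, single_mul_single_of_ne _ _ _ _ hij]

theorem P_mul_A_ne {i j : Fin m} (hij : i ≠ j) : (P i : Matrix _ _ F) * A j = 0 := by
  simp [A, P, fromBlocks_multiply, single_mul_single_of_ne _ _ _ _ hij]

theorem A_mul_P_ne {i j : Fin m} (hij : i ≠ j) : (A i : Matrix _ _ F) * P j = 0 := by
  simp [A, P, fromBlocks_multiply, single_mul_single_of_ne _ _ _ _ hij]

theorem P_mul_B_ne (a b : F) {i j : Fin m} (hij : i ≠ j) : P i * B a b j = 0 := by
  simp [B, P, fromBlocks_multiply, single_mul_single_of_ne _ _ _ _ hij]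

theorem B_mul_P_ne (a b : F) {i j : Fin m} (hij : i ≠ j) : B a b i * P j = 0 := by
  simp [B, P, fromBlocks_multiply, single_mul_single_of_ne _ _ _ _ hij]

theorem EA_mem_D (a b : F) (i : Fin m) : (⟨1 - P i + A i, EA_mem i⟩ : symplecticGroup (Fin m) F) ∈ D m a b := by
  intro j
  by_cases hij : i = j
  · subst hij
    constructor
    · left
      show (1 - P i + A i) * A i = A i * (1 - P i + A i)
      rw [add_mul, sub_mul, mul_add, mul_sub, P_mul_A, A_mul_P, one_mul, mul_one]
    · right
      show (1 - P i + A i) * B a b i = -(B a b i * (1 - P i + A i))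
      rw [add_mul, sub_mul, mul_add, mul_sub, P_mul_B, B_mul_P, one_mul, mul_one, sub_self, zero_add, zero_add,
        A_mul_B]
  · constructor
    · left
      show (1 - P i + A i) * A j = A j * (1 - P i + A i)
      rw [add_mul, sub_mul, mul_add, mul_sub, P_mul_A_ne hij, A_mul_P_ne (Ne.symm hij), one_mul, mul_one,
        A_mul_A_ne hij, A_mul_A_ne (Ne.symm hij)]
    · left
      show (1 - P i + A i) * B a b j = B a b j * (1 - P i + A i)
      rw [add_mul, sub_mul, mul_add, mul_sub, P_mul_B_ne a b hij, B_mul_P_ne a b (Ne.symm hij), one_mul, mul_one,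
        A_mul_B_ne a b hij, B_mul_A_ne a b (Ne.symm hij)]

theorem EB_mem_D {a b : F} (h : a ^ 2 + b ^ 2 = -1) (i : Fin m) :
    (⟨1 - P i + B a b i, EB_mem h i⟩ : symplecticGroup (Fin m) F) ∈ D m a b := by
  intro j
  by_cases hij : i = j
  · subst hij
    constructor
    · right
      show (1 - P i + B a b i) * A i = -(A i * (1 - P i + B a b i))
      rw [add_mul, sub_mul, mul_add, mul_sub, P_mul_A, A_mul_P, one_mul, mul_one, sub_self, zero_add, zero_add,
        A_mul_B, neg_neg]
    · left
      show (1 - P i + B a b i) * B a b i = B a b i * (1 - P i + B a b i)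
      rw [add_mul, sub_mul, mul_add, mul_sub, P_mul_B, B_mul_P, one_mul, mul_one]
  · constructor
    · left
      show (1 - P i + B a b i) * A j = A j * (1 - P i + B a b i)
      rw [add_mul, sub_mul, mul_add, mul_sub, P_mul_A_ne hij, A_mul_P_ne (Ne.symm hij), one_mul, mul_one,
        B_mul_A_ne a b hij, A_mul_B_ne a b (Ne.symm hij)]
    · left
      show (1 - P i + B a b i) * B a b j = B a b j * (1 - P i + B a b i)
      rw [add_mul, sub_mul, mul_add, mul_sub, P_mul_B_ne a b hij, B_mul_P_ne a b (Ne.symm hij), one_mul, mul_one,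
        B_mul_B_ne a b hij, B_mul_B_ne a b (Ne.symm hij)]

theorem sq_eq_one_of_commute (h2 : (2 : F) ≠ 0) {a b : F} (h : a ^ 2 + b ^ 2 = -1) {g : symplecticGroup (Fin m) F}
    (hA : ∀ i : Fin m, Commute (A i) g.1) (hB : ∀ i : Fin m, Commute (B a b i) g.1) : g ^ 2 = 1 := by
  rw [pow_two]
  exact Subtype.ext (key h2 h hA hB g.2)

end sp

/-- **`TwoC` for the symplectic groups in odd characteristic** -/
theorem twoC_psp {F : Type} [Field F] [Fintype F] (h2 : (2 : F) ≠ 0) {m : ℕ} (_ : 1 ≤ m) :
    TwoC (Cfsg.PSp m F) := by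
  obtain ⟨a, b, h⟩ := exists_sq (F := F)
  have hfin : Finite (symplecticGroup (Fin m) F) := inferInstance
  refine TwoC.of_cover (QuotientGroup.mk' (center (symplecticGroup (Fin m) F))) (QuotientGroup.mk'_surjective _)
    (by rw [QuotientGroup.ker_mk']) (D m a b) ?_ ?_
  · rintro ⟨g, hg⟩
    refine ⟨2, ?_⟩
    have h1 : (g ^ 2) ^ 2 = 1 := by
      apply sq_eq_one_of_commute h2 h
      · intro i
        have := (hg i).1.sq
        rw [pow_two]
        exact this
      · intro i
        have := (hg i).2.sq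
        rw [pow_two]
        exact this
    apply Subtype.ext
    show g ^ (2 ^ 2) = 1
    rw [← h1, ← pow_mul]
    norm_num
  · intro g hg
    refine ⟨1, ?_⟩
    have h1 : g ^ 2 = 1 := by
      have hc : ∀ X : Matrix (Fin m ⊕ Fin m) (Fin m ⊕ Fin m) F, ∀ i, (1 - P i + X) * (g : Matrix _ _ F) =
          (g : Matrix _ _ F) * (1 - P i + X) → (1 - P i - X) * (g : Matrix _ _ F) = (g : Matrix _ _ F) * (1 - P i - X) →
          Commute X (g : Matrix _ _ F) := by
        intro X i e1 e2
        have e3 : ((2 : F) • X) * (g : Matrix _ _ F) = (g : Matrix _ _ F) * ((2 : F) • X) := by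
          have e4 : (2 : F) • X = (1 - P i + X) - (1 - P i - X) := by
            rw [two_smul]; abel
          rw [e4, sub_mul, mul_sub, e1, e2]
        rw [smul_mul_assoc, mul_smul_comm] at e3
        exact smul_right_injective _ h2 e3
      apply sq_eq_one_of_commute h2 h
      · intro i
        have e1 := congrArg Subtype.val (hg _ (EA_mem_D a b i))
        have e2 := congrArg Subtype.val (hg _ ((D m a b).inv_mem (EA_mem_D a b i)))
        refine hc _ i e1 ?_
        have e3 : ((⟨1 - P i + A i, EA_mem i⟩ : symplecticGroup (Fin m) F)⁻¹ : symplecticGroup (Fin m) F).1 =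
            1 - P i - A i := by
          have e4 : (⟨1 - P i + A i, EA_mem i⟩ : symplecticGroup (Fin m) F) * ⟨1 - P i - A i, by
              have := SymplecticGroup.transpose_mem (EA_mem (F := F) i)
              rwa [transpose_add, transpose_sub, transpose_one, P_transpose, A_transpose, ← sub_eq_add_neg] at this⟩ = 1 := by
            apply Subtype.ext
            show (1 - P i + A i) * (1 - P i - A i) = 1
            simp only [add_mul, sub_mul, mul_sub, one_mul, mul_one, A_mul_A, A_mul_P, P_mul_P, P_mul_A]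
            abel
          rw [inv_eq_of_mul_eq_one_right e4]
        rw [← e3]
        exact e2
      · intro i
        have e1 := congrArg Subtype.val (hg _ (EB_mem_D h i))
        have e2 := congrArg Subtype.val (hg _ ((D m a b).inv_mem (EB_mem_D h i)))
        refine hc _ i e1 ?_
        have h' : (-a) ^ 2 + (-b) ^ 2 = -1 := by rw [neg_sq, neg_sq, h]
        have hneg : B (-a) (-b) i = -B a b i := by
          unfold B
          rw [fromBlocks_neg]
          ext (r | r) (c | c) <;> simp [single_apply] <;> split_ifs <;> simp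
        have hm : (1 - P i - B a b i : Matrix _ _ F) ∈ symplecticGroup (Fin m) F := by
          have := EB_mem h' i
          rwa [hneg, ← sub_eq_add_neg] at this
        have e3 : ((⟨1 - P i + B a b i, EB_mem h i⟩ : symplecticGroup (Fin m) F)⁻¹ : symplecticGroup (Fin m) F).1 =
            1 - P i - B a b i := by
          have e4 : (⟨1 - P i + B a b i, EB_mem h i⟩ : symplecticGroup (Fin m) F) * ⟨1 - P i - B a b i, hm⟩ = 1 := by
            apply Subtype.ext
            show (1 - P i + B a b i) * (1 - P i - B a b i) = 1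
            simp only [add_mul, sub_mul, mul_sub, one_mul, mul_one, B_mul_B h, B_mul_P, P_mul_P, P_mul_B]
            abel
          rw [inv_eq_of_mul_eq_one_right e4]
        rw [← e3]
        exact e2
    rw [pow_one, h1]
    exact one_mem _

/-! ### `PSL_2` -/

section sl

variable {F : Type*} [Field F]

def I2 : Matrix (Fin 2) (Fin 2) F := !![0, 1; -1, 0]

def J2 (a b : F) : Matrix (Fin 2) (Fin 2) F := !![a, b; b, -a]

/-- matrices of determinant one commuting with `I2`, `J2` -/
theorem key2 (h2 : (2 : F) ≠ 0) {a b : F} (h : a ^ 2 + b ^ 2 = -1) {g : Matrix (Fin 2) (Fin 2) F}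
    (hA : Commute I2 g) (hB : Commute (J2 a b) g) (hg : g.det = 1) : g * g = 1 := by
  have e1 : I2 * g = g * I2 := hA
  have e2 : J2 a b * g = g * J2 a b := hB
  rw [eta_fin_two g] at e1 e2 hg ⊢
  set x := g 0 0
  set y := g 0 1
  set z := g 1 0
  set w := g 1 1
  rw [det_fin_two_of] at hg
  simp only [I2, J2, mul_fin_two] at e1 e2
  have f1 := congrFun (congrFun e1 0) 0
  have f2 := congrFun (congrFun e1 0) 1
  have f3 := congrFun (congrFun e2 0) 0
  have f4 := congrFun (congrFun e2 0) 1
  simp only [of_apply, cons_val', cons_val_zero, cons_val_one, cons_val_fin_one] at f1 f2 f3 f4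
  have hz : z = -y := by linear_combination f1
  have hw : w = x := by linear_combination f2
  have hya : 2 * (y * a) = 0 := by rw [hw] at f4; linear_combination f4
  have hyb : 2 * (y * b) = 0 := by rw [hz] at f3; linear_combination (-1 : F) * f3
  have hya' := (mul_eq_zero.1 hya).resolve_left h2
  have hyb' := (mul_eq_zero.1 hyb).resolve_left h2
  have hy : y = 0 := by
    have : y * (a ^ 2 + b ^ 2) = 0 := by linear_combination a * hya' + b * hyb'
    rw [h] at this
    linear_combination -this
  rw [hy] at hz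
  rw [hz, hw, hy] at hg
  rw [hz, hw, hy, mul_fin_two]
  have hx : x * x = 1 := by linear_combination hg
  ext i j
  fin_cases i <;> fin_cases j <;> simp [hx]

/-- the subgroup of elements commuting with `I2`, `J2` up to sign -/
def D2 (a b : F) : Subgroup (SpecialLinearGroup (Fin 2) F) where
  carrier := {g | PC I2 g.1 ∧ PC (J2 a b) g.1}
  mul_mem' := fun hg hh => ⟨hg.1.mul hh.1, hg.2.mul hh.2⟩
  one_mem' := ⟨Or.inl ((one_mul I2).trans (mul_one I2).symm), Or.inl ((one_mul (J2 a b)).trans (mul_one (J2 a b)).symm)⟩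
  inv_mem' := by
    intro g hg
    have h1 : g.1 * (g⁻¹).1 = 1 := congrArg Subtype.val (mul_inv_cancel g)
    have h2 : (g⁻¹).1 * g.1 = 1 := congrArg Subtype.val (inv_mul_cancel g)
    exact ⟨hg.1.inv h1 h2, hg.2.inv h1 h2⟩

end sl

/-- **`TwoC` for `PSL_2(q)`, `q` odd** -/
theorem twoC_psl2 {F : Type} [Field F] [Fintype F] (h2 : (2 : F) ≠ 0) :
    TwoC (Matrix.ProjectiveSpecialLinearGroup (Fin 2) F) := by
  obtain ⟨a, b, h⟩ := exists_sq (F := F)
  have hfin : Finite (SpecialLinearGroup (Fin 2) F) := inferInstance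
  have hI : (I2 : Matrix (Fin 2) (Fin 2) F).det = 1 := by rw [I2, det_fin_two_of]; ring
  have hJ : (J2 a b).det = 1 := by rw [J2, det_fin_two_of]; linear_combination -h
  have hIJ : I2 * J2 a b = -(J2 a b * I2) := by
    ext i j
    fin_cases i <;> fin_cases j <;> simp [I2, J2]
  have hID : (⟨I2, hI⟩ : SpecialLinearGroup (Fin 2) F) ∈ D2 a b := ⟨Or.inl rfl, Or.inr hIJ⟩
  have hJD : (⟨J2 a b, hJ⟩ : SpecialLinearGroup (Fin 2) F) ∈ D2 a b :=
    ⟨Or.inr (by show J2 a b * I2 = -(I2 * J2 a b); rw [hIJ, neg_neg]), Or.inl rfl⟩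
  refine TwoC.of_cover (QuotientGroup.mk' (center (SpecialLinearGroup (Fin 2) F))) (QuotientGroup.mk'_surjective _)
    (by rw [QuotientGroup.ker_mk']) (D2 a b) ?_ ?_
  · rintro ⟨g, hg⟩
    refine ⟨2, ?_⟩
    have h1 : (g * g) * (g * g) = 1 := by
      apply Subtype.ext
      exact key2 h2 h hg.1.sq hg.2.sq (g * g).2
    apply Subtype.ext
    show g ^ (2 ^ 2) = 1
    rw [← h1, ← pow_two, ← pow_two, ← pow_mul]
    norm_num
  · intro g hg
    refine ⟨1, ?_⟩
    have h1 : g * g = 1 := by
      apply Subtype.ext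
      exact key2 h2 h (congrArg Subtype.val (hg _ hID)) (congrArg Subtype.val (hg _ hJD)) g.2
    rw [pow_one, pow_two, h1]
    exact one_mem _

end Cfsg.Agent.H493.OddDeg
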